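import Cfsg.Agent.Lib.CosetEnum.Pres
set_option autoImplicit false
set_option maxRecDepth 100000
namespace H71.J4c
open H54 (Tr force band)
open H18.TC
noncomputable def T_0 : Tr := (.node (nat_lit 5) (.node (nat_lit 2) (.node (nat_lit 0) (.leaf (nat_lit 0x8f7b00000e73087c00008efa0d740bf5077d002091fe057b067e0af6002090fe047e05fa09f70020907f02fd037f08f80020917f01ff000007f90000927f06fa04fb00ff0000000003fc027d017e)) (.node (nat_lit 1) (.leaf (nat_lit 0x208cf610f111f71a68002000000ff711701969002000000ef30f78000000208d790df8000017eb002000000c750cf916ec002000000b79000015ed0000000014ee136f0a7a00008ffc12701071097b)) (.leaf (nat_lit 0x8e7a000022df19f000008c75723c21e018f10000756e000000001872000089fd2062000017730000000000001e6416740000896e00001d65157500208bf113ef14761c660020000012f600001b67)))) (.node (nat_lit 3) (.leaf (nat_lit 0x2000002169733c2c55002074f620ea00000000002086ff1f631feb2ad700208a7c1eeb000029d8002000001dec000028d9002086761ced000027da000075f2000026db1bee0000000025dc00001aef)) (.node (nat_lit 4) (.leaf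 (nat_lit 0x8df80000000029630000000033cd00002864000083fa31cf0000276500207678266600002fd10020000024dd25672ed200200000246700000000002084e0235f23e80000002087e9226800002d54)) (.leaf (nat_lit 0x200000305a00000000000076fc3fc200002f5b0000000000003dc42e5c000085d500003b462dde00008b713a4738482cdf00000000000037492be00000747a000000002b610000847e000034cc2a62))))) (.node (nat_lit 8) (.node (nat_lit 6) (.leaf (nat_lit 0x208af037d43947453c002088d436d500000000002073fb35cb3656000000200000355600000000002081fb3457000043be0020876832ce335942bf002085603259000041c00020817b30d0315a40c1)) (.node (nat_lit 7) (.leaf (nat_lit 0x885500004b36414e00007ef700004a37404f0020777d3ec33f514938002000003e5100000000002000003d5200004839002079c83bc63cd3473a002079543ad33c45000000207a5338c839d4463b)) (.leaf (nat_lit 0x77f9000059a948c20000000058aa000047c400007abc0000562c46c500007b5e552d53ae45c7000082cd52af50b044c8000072f700000000444a00007f774f320000434c0000804800004c35424d)))) (.node (nat_lit 10) (.node (nat_lit 9) (.leaf (nat_lit 0x2070e9503c51af5ea3002071714fbd0000000000207df04e334ebe5d2500207ff14dbe00005c2600207e544cb54d3f0000002080d34bbf00005aa8002078ed4ac0000069a900207d7149c100000000))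 (.leaf (nat_lit 0x6eaa659c00005a350020787559380000639e0020835e572b5839629f0020826956b957aa000000207be955ba000061a000207cdf542e54bb60a100207c68533b00005fa2002071e05130523c0000))) (.node (nat_lit 11) (.leaf (nat_lit 0x6a3700000000612c00006cb4681f0000602d00006e32679b00005f2e00006bb1000000005e3000006b30000000005db100006d2e000000005cb20000702b000000005bb300006c2d6aa500005b34)) (.leaf (nat_lit 0x6f3300006722661c00206fab649d6528669b002000006428000000000000693600000000632900006db5000068a1622a))))))
noncomputable def J_0 : Tr := (.node (nat_lit 5) (.node (nat_lit 2) (.node (nat_lit 0) (.leaf (nat_lit 0x18441000000000000010012c441400000000000010010842100100100000400000064010010010000000000000408c010010000040000006421401001000000000000040ac00000000000010010000000000000000000000)) (.node (nat_lit 1) (.leaf (nat_lit 0x24421401001000004000000000000100100000000000000000010010000040000028401001001000000000000000000100100000400000000000010010000000000000000000000000000010014e40140000000000001001)) (.leaf (nat_lit 0x6e401000000000000010012440140127a000000010013c441000000000000010013a42100000000000001001000000000000000000100134441000000000000010017e421001001000004000000000000100100000000000))))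 (.node (nat_lit 3) (.leaf (nat_lit 0x1001004a0800000524010010010000000000050401001001000004000003a4410010010000000000000000001001000000000004a401001001000000000002a401400000000000010010000000000000000001001)) (.node (nat_lit 4) (.leaf (nat_lit 0x384010000000000000100100000000000000000010016042100000000000001001324210010010000000000000000001001000004000000000000100100000000000a8421001001000004000004244100100100000000000)) (.leaf (nat_lit 0x10010000000000048401000000000000010010000000000000000001001aa40100000000000001001404010000000000000100100000000000000000010016a421000000000000010016644100000000000001001))))) (.node (nat_lit 8) (.node (nat_lit 6) (.leaf (nat_lit 0x64401001001000000000005842140100100000000000844010010010000040000000000001001000000000008240100100100000000000424214010010000040000086441401001000000000007c40100100100000400000)) (.node (nat_lit 7) (.leaf (nat_lit 0x624010000000000000100190441000000000000010015c4410010010000040000000000001001000000000000000000100100000000000724210010010000040000000406c01001000000000007244140100100000400000))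 (.leaf (nat_lit 0x7a4010000000000000100100000000000000000010017440100000000000001001704010000000000000100180401400000000000010019c441000000000000010019a421000000000000010019642100000000000001001)))) (.node (nat_lit 10) (.node (nat_lit 9) (.leaf (nat_lit 0x402c01001000000000009e40100100100000000000a2401001001000004000009a44100100100000000000a4401001001000004000009644100100100000000000ac4010010010000000130aa640100100100000000000)) (.leaf (nat_lit 0xc0401400000000000010018e42100100100000000000944010010010000040000098401001001000000000008a42100100100000000000884410010010000040000088421001001000000000009e42100100100000400000))) (.node (nat_lit 11) (.leaf (nat_lit 0xc0000000000001001b040140000100000001001b440140000000000001001b6401400000000000010010000040000000000001001b044100000000000001001c8401400000000000010010000080000100000001001)) (.leaf (nat_lit 0xba44100000000000801001ae4410010010000040000000000001001000000000000000040000000000001001bc44100000000000001001))))))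
noncomputable def F_0 : Tr := (.node (nat_lit 0) (.leaf (nat_lit 0)) (.node (nat_lit 1) (.leaf (nat_lit 0)) (.leaf (nat_lit 0))))
noncomputable def T : Tr := T_0
noncomputable def J : Tr := J_0
noncomputable def F : Tr := F_0
noncomputable def row (u : ℕ) : ℕ := Nat.land (Nat.shiftRight (force (Nat.shiftRight u (nat_lit 3)) T.get) (Nat.mul (Nat.land u (nat_lit 7)) (nat_lit 80))) (nat_lit 0xffffffffffffffffffff)
noncomputable def jrow (u : ℕ) : ℕ := Nat.land (Nat.shiftRight (force (Nat.shiftRight u (nat_lit 3)) J.get) (Nat.mul (Nat.land u (nat_lit 7)) (nat_lit 88))) (nat_lit 0xffffffffffffffffffffff)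
noncomputable def fget (k fx : ℕ) : ℕ := F.get (Nat.add k fx)
noncomputable def wt0 : LT := (.leaf 0 0 [])
noncomputable def wt1 : LT := (.node (nat_lit 0) (.leaf 3 0 [nat_lit 32, nat_lit 32])
(.node (nat_lit 1) (.leaf 9 21 [nat_lit 0, nat_lit 16, nat_lit 0, nat_lit 32, nat_lit 0, nat_lit 16, nat_lit 0, nat_lit 32, nat_lit 0, nat_lit 16, nat_lit 0, nat_lit 32, nat_lit 0, nat_lit 16, nat_lit 0, nat_lit 32, nat_lit 0, nat_lit 16, nat_lit 0, nat_lit 32, nat_lit 0, nat_lit 16, nat_lit 0])
(.leaf 0 0 [])))
noncomputable def wt2 : LT := (.node (nat_lit 0) (.leaf 11 23 [nat_lit 0, nat_lit 32, nat_lit 0, nat_lit 32, nat_lit 0, nat_lit 16, nat_lit 0, nat_lit 32, nat_lit 0, nat_lit 16, nat_lit 0, nat_lit 32, nat_lit 0, nat_lit 16, nat_lit 0, nat_lit 32, nat_lit 0, nat_lit 32, nat_lit 0, nat_lit 16, nat_lit 0, nat_lit 32, nat_lit 0, nat_lit 16, nat_lit 0, nat_lit 32, nat_lit 0])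
(.leaf 0 0 []))
noncomputable def wt3 : LT := (.node (nat_lit 5) (.node (nat_lit 1) (.node (nat_lit 0) (.leaf 11 15 [nat_lit 0, nat_lit 32, nat_lit 0, nat_lit 16, nat_lit 0, nat_lit 32, nat_lit 0, nat_lit 16, nat_lit 0, nat_lit 32, nat_lit 0, nat_lit 32, nat_lit 0, nat_lit 16, nat_lit 0, nat_lit 32, nat_lit 0, nat_lit 16, nat_lit 0, nat_lit 32, nat_lit 0, nat_lit 16, nat_lit 0, nat_lit 32, nat_lit 0, nat_lit 32, nat_lit 0, nat_lit 16])
(.leaf 8 1 [nat_lit 32, nat_lit 0, nat_lit 16, nat_lit 0, nat_lit 32, nat_lit 0, nat_lit 16, nat_lit 0, nat_lit 32, nat_lit 0, nat_lit 16, nat_lit 0, nat_lit 32, nat_lit 0, nat_lit 16, nat_lit 0, nat_lit 32, nat_lit 0, nat_lit 16, nat_lit 0, nat_lit 32, nat_lit 0, nat_lit 16, nat_lit 0]))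
(.node (nat_lit 3) (.node (nat_lit 2) (.leaf 11 19 [nat_lit 0, nat_lit 32, nat_lit 0, nat_lit 16, nat_lit 0, nat_lit 32, nat_lit 0, nat_lit 32, nat_lit 0, nat_lit 16, nat_lit 0, nat_lit 32, nat_lit 0, nat_lit 16, nat_lit 0, nat_lit 32, nat_lit 0, nat_lit 16, nat_lit 0, nat_lit 32, nat_lit 0, nat_lit 32, nat_lit 0, nat_lit 16, nat_lit 0, nat_lit 32, nat_lit 0, nat_lit 16])
(.leaf 11 20 [nat_lit 32, nat_lit 0, nat_lit 16, nat_lit 0, nat_lit 32, nat_lit 0, nat_lit 32, nat_lit 0, nat_lit 16, nat_lit 0, nat_lit 32, nat_lit 0, nat_lit 16, nat_lit 0, nat_lit 32, nat_lit 0, nat_lit 16, nat_lit 0, nat_lit 32, nat_lit 0, nat_lit 32, nat_lit 0, nat_lit 16, nat_lit 0, nat_lit 32, nat_lit 0, nat_lit 16, nat_lit 0]))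
(.node (nat_lit 4) (.leaf 7 0 [nat_lit 16, nat_lit 0, nat_lit 16, nat_lit 0, nat_lit 32, nat_lit 0, nat_lit 16, nat_lit 0, nat_lit 16, nat_lit 0, nat_lit 32, nat_lit 0, nat_lit 16, nat_lit 0, nat_lit 16, nat_lit 0, nat_lit 32, nat_lit 0, nat_lit 16, nat_lit 0, nat_lit 32, nat_lit 0, nat_lit 32, nat_lit 0, nat_lit 16, nat_lit 0, nat_lit 32, nat_lit 0, nat_lit 32, nat_lit 0, nat_lit 16, nat_lit 0, nat_lit 32, nat_lit 0, nat_lit 32, nat_lit 0])
(.leaf 5 0 [nat_lit 32, nat_lit 0, nat_lit 32, nat_lit 0, nat_lit 32, nat_lit 0, nat_lit 32, nat_lit 0, nat_lit 32, nat_lit 0, nat_lit 32, nat_lit 0, nat_lit 32, nat_lit 0, nat_lit 32, nat_lit 0, nat_lit 32, nat_lit 0, nat_lit 32, nat_lit 0, nat_lit 32, nat_lit 0, nat_lit 32, nat_lit 0, nat_lit 32, nat_lit 0, nat_lit 32, nat_lit 0, nat_lit 32, nat_lit 0, nat_lit 32, nat_lit 0, nat_lit 32, nat_lit 0, nat_lit 32, nat_lit 0, nat_lit 32, nat_lit 0, nat_lit 32, nat_lit 0, nat_lit 32, nat_lit 0, nat_lit 32, nat_lit 0, nat_lit 32, nat_lit 0]))))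
(.leaf 0 0 []))
noncomputable def sl : List (ℕ × ℕ × List ℕ × List ℕ) := []
/-- the inverse column -/
noncomputable def icol (x : ℕ) : ℕ := List.getD [nat_lit 0, nat_lit 2, nat_lit 1] x x
noncomputable def inv (x : ℕ) : ℕ := Nat.mul (icol (Nat.div x (nat_lit 16))) (nat_lit 16)
def cols : List ℕ := [nat_lit 48, nat_lit 0, nat_lit 16, nat_lit 32]
noncomputable def cl : CL := (.cons (nat_lit 0) (nat_lit 0) (nat_lit 0) (nat_lit 0) wt0
(.cons (nat_lit 16) (nat_lit 32) (nat_lit 22) (nat_lit 1) wt1
(.cons (nat_lit 32) (nat_lit 16) (nat_lit 44) (nat_lit 2) wt2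
.nil)))
def rels : List (List ℕ) := [[0, 0],
[1, 1, 1],
[0, 1, 0, 1, 0, 1, 0, 1, 0, 1, 0, 1, 0, 1, 0, 1, 0, 1, 0, 1, 0, 1, 0, 1, 0, 1, 0, 1, 0, 1, 0, 1, 0, 1, 0, 1, 0, 1, 0, 1, 0, 1, 0, 1, 0, 1],
[0, 1, 0, 1, 0, 2, 0, 1, 0, 1, 0, 2, 0, 1, 0, 1, 0, 2, 0, 1, 0, 2, 0, 2, 0, 1, 0, 2, 0, 2, 0, 1, 0, 2, 0, 2],
[0, 2, 0, 1, 0, 2, 0, 1, 0, 2, 0, 1, 0, 2, 0, 1, 0, 2, 0, 1, 0, 2, 0, 1],
[0, 1, 0, 1, 0, 2, 0, 1, 0, 2, 0, 1, 0, 2, 0, 1, 0, 1, 0, 2, 0, 1, 0, 2, 0, 1, 0, 2]]
def subs : List (List ℕ) := []
noncomputable def chk : ℕ → Bool := rowChk row jrow fget sl cols (nat_lit 1) (nat_lit 101) (nat_lit 65535) (nat_lit 127) (nat_lit 65536) (nat_lit 48) (nat_lit 64) (nat_lit 4194303) (nat_lit 6) (nat_lit 63) (nat_lit 1) (nat_lit 1) cl (nat_lit 66) wt3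
theorem p0 : allB chk 7 0 = true := by decide +kernel
theorem all_chk : AllLt chk 101 := by
  have h := AllLt.zero chk
  have h := h.step 101 p0 (by decide +kernel)
  exact h
/-- column `x` of the final table -/
noncomputable def tab (x u : ℕ) : ℕ := ft fget (nat_lit 6) (nat_lit 63) (nat_lit 1) (nat_lit 1) (Nat.mul x (nat_lit 1)) u
theorem enum {G Ω : Type*} [Group G] [MulAction G Ω] (g : ℕ → G) (ω : Ω)
    (hinv : ∀ x, g (icol x) = (g x)⁻¹) (h1 : g 3 = 1)
    (hrels : ∀ R ∈ rels, ev g R = 1) (hsubs : ∀ S ∈ subs, ev g S • ω = ω) :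
    ∃ pt : ℕ → Ω, pt 0 = ω ∧ (∀ K : Subgroup G, (∀ x, g x ∈ K) → ∀ v, ∃ k ∈ K, pt v = k • ω) ∧
      ∀ x, x < 3 → ∀ u, u < 1 → tab x u < 1 ∧ g x • pt u = pt (tab x u) :=
  sound_scaled g ω row jrow fget sl inv icol cols (nat_lit 1) (nat_lit 101) (nat_lit 65535) (nat_lit 127) (nat_lit 65536) (nat_lit 48) (nat_lit 64) (nat_lit 4194303) (nat_lit 6) (nat_lit 63) (nat_lit 1) (nat_lit 1) 7 cl (nat_lit 66) wt3 rels subs 16 (nat_lit 1) 3
    (fun _ => Nat.mul_div_cancel _ (by decide)) hinv h1 hrels hsubs
    (by decide +kernel) (by decide +kernel) all_chk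
end H71.J4c
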